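import Cfsg.Agent.Lib.LAEven57.FrobQuot.Small
import Cfsg.Agent.Lib.FpfLinear.NonSolvable
import Cfsg.Agent.Lib.FpfLinear.Linearize
import Cfsg.Agent.Lib.PSolvable.HallHigman
import Cfsg.Agent.Lib.Cores.Basic
import Cfsg.Agent.Lib.Spectrum.SL25Recognition
import Cfsg.Agent.Lib.Linear.Transvection

/-!
# Frobenius complements: the normal subgroup with cyclic Sylow subgroups and the five quotients
-/

set_option autoImplicit false
set_option linter.style.haveILetI false
set_option linter.unusedSectionVars false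

open Cfsg
open scoped commutatorElement

namespace Cfsg.Agent.Lib.LAEven57.FrobQuot

open Cfsg.Agent.Lib
open Cfsg.Agent.Lib.FpfLinear.Basic Cfsg.Agent.Lib.FpfLinear.Perfect

/-! ### Uniqueness -/

section Unique

variable {G : Type*} [Group G] [Finite G]

/-- The subgroup generated by the squares. -/
def sqSub (G : Type*) [Group G] : Subgroup G := Subgroup.closure (Set.range fun g : G => g * g)

instance sqSub_normal : (sqSub G).Normal := by
  refine ⟨fun x hx g => ?_⟩
  have : sqSub G ≤ (sqSub G).comap (MulAut.conj g).toMonoidHom := by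
    refine (Subgroup.closure_le _).2 ?_
    rintro _ ⟨y, rfl⟩
    refine Subgroup.subset_closure ⟨g * y * g⁻¹, ?_⟩
    show g * y * g⁻¹ * (g * y * g⁻¹) = g * (y * y) * g⁻¹
    group
  exact this hx

/-- The admissible normal subgroups. -/
def Good (N : Subgroup G) : Prop :=
  N.Normal ∧ ZG N ∧ (N = ⊤ ∨ (∀ h : N.Normal, Thick (G ⧸ N) ∧ 4 < Nat.card (G ⧸ N)) ∨
    (N.index = 4 ∧ ∀ g : G, g * g ∈ N))

theorem eq_of_good (hsq : ¬ ZG (⊤ : Subgroup G) → (sqSub G).index ≤ 4) {N₁ N₂ : Subgroup G}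
    (h₁ : Good N₁) (h₂ : Good N₂) : N₁ = N₂ := by
  have hle : ∀ A B : Subgroup G, Good A → Good B → (∀ h : B.Normal, Thick (G ⧸ B)) → A ≤ B := by
    intro A B hA hB hth
    haveI := hB.1
    have := hth inferInstance _ (hA.1.map _ (QuotientGroup.mk'_surjective B)) (hA.2.1.map _)
    rwa [Subgroup.map_eq_bot_iff, QuotientGroup.ker_mk'] at this
  have htop : ∀ A B : Subgroup G, Good A → Good B → A = ⊤ → B = ⊤ := by
    intro A B hA hB hAt
    haveI := hB.1
    rcases hB.2.2 with h | h | ⟨h, hs⟩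
    · exact h
    · exact top_le_iff.1 (hAt ▸ hle A B hA hB fun h' => (h h').1)
    · exfalso
      have hz : ZG ((⊤ : Subgroup G).map (QuotientGroup.mk' B)) := (hAt ▸ hA.2.1).map _
      rw [Subgroup.map_top_of_surjective _ (QuotientGroup.mk'_surjective B)] at hz
      have h4 : Nat.card (G ⧸ B) = 4 := h
      haveI := Fact.mk Nat.prime_two
      have hp : IsPGroup 2 (⊤ : Subgroup (G ⧸ B)) :=
        IsPGroup.of_card (n := 2) (by rw [Subgroup.card_top, h4]; rfl)
      obtain ⟨g, hg⟩ := (hz 2 ⊤ le_rfl hp).exists_generator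
      have h5 := orderOf_eq_card_of_forall_mem_zpowers hg
      rw [Subgroup.card_top, h4] at h5
      have h6 : g * g = 1 := by
        obtain ⟨⟨y⟩, _⟩ := g
        exact Subtype.ext ((QuotientGroup.eq_one_iff (y * y)).2 (hs y))
      have h7 := Nat.le_of_dvd two_pos (orderOf_dvd_of_pow_eq_one (show g ^ 2 = 1 by rw [sq]; exact h6))
      omega
  have hsqle : ∀ B : Subgroup G, Good B → B.index = 4 → (∀ g, g * g ∈ B) → B = sqSub G := by
    intro B hB h4 hs
    refine (Subgroup.eq_of_le_of_card_ge ((Subgroup.closure_le _).2 (by rintro _ ⟨g, rfl⟩; exact hs g)) ?_).symm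
    have hnz : ¬ ZG (⊤ : Subgroup G) := fun hz => by
      have := htop ⊤ B ⟨inferInstance, hz, Or.inl rfl⟩ hB rfl
      rw [this, Subgroup.index_top] at h4
      omega
    have h := hsq hnz
    have e1 := (sqSub G).card_mul_index
    have e2 := B.card_mul_index
    rw [h4] at e2
    show Nat.card B ≤ Nat.card (sqSub G)
    have := Nat.mul_le_mul_left (Nat.card (sqSub G)) h
    omega
  rcases h₁.2.2 with e1 | t1 | ⟨i1, s1⟩
  · rw [e1, htop _ _ h₁ h₂ e1]
  · rcases h₂.2.2 with e2 | t2 | ⟨i2, s2⟩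
    · rw [e2, htop _ _ h₂ h₁ e2]
    · exact le_antisymm (hle _ _ h₁ h₂ fun h => (t2 h).1) (hle _ _ h₂ h₁ fun h => (t1 h).1)
    · exfalso
      haveI := h₁.1
      have h21 := hle _ _ h₂ h₁ fun h => (t1 h).1
      have := Nat.le_of_dvd (by rw [i2]; norm_num) (Subgroup.index_dvd_of_le h21)
      have h4 : 4 < N₁.index := (t1 inferInstance).2
      omega
  · rcases h₂.2.2 with e2 | t2 | ⟨i2, s2⟩
    · rw [e2, htop _ _ h₂ h₁ e2]
    · exfalso
      haveI := h₂.1
      have h12 := hle _ _ h₁ h₂ fun h => (t2 h).1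
      have := Nat.le_of_dvd (by rw [i1]; norm_num) (Subgroup.index_dvd_of_le h12)
      have h4 : 4 < N₂.index := (t2 inferInstance).2
      omega
    · rw [hsqle _ h₁ i1 s1, hsqle _ h₂ i2 s2]

end Unique

/-! ### The map `Q_{2^n} → V₄` -/

/-- Reduction of the indices modulo two. -/
def quatToKlein {m : ℕ} (hm : 2 ∣ m) : QuaternionGroup m →* DihedralGroup 2 :=
  MonoidHom.mk' (fun g => match g with
    | .a i => .r (ZMod.castHom (dvd_mul_right 2 m) (ZMod 2) i)
    | .xa i => .sr (ZMod.castHom (dvd_mul_right 2 m) (ZMod 2) i))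
    (by
      have hm0 : (ZMod.castHom (dvd_mul_right 2 m) (ZMod 2)) (m : ZMod (2 * m)) = 0 := by
        rw [map_natCast]
        exact (ZMod.natCast_eq_zero_iff_even).2 (even_iff_two_dvd.2 hm)
      rintro (i | i) (j | j) <;>
        simp only [QuaternionGroup.a_mul_a, QuaternionGroup.a_mul_xa, QuaternionGroup.xa_mul_a,
          QuaternionGroup.xa_mul_xa, DihedralGroup.r_mul_r, DihedralGroup.r_mul_sr, DihedralGroup.sr_mul_r,
          DihedralGroup.sr_mul_sr, map_add, map_sub, hm0, zero_add])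

theorem quatToKlein_surjective {m : ℕ} (hm : 2 ∣ m) : Function.Surjective (quatToKlein hm) := by
  rintro (i | i)
  · obtain ⟨j, rfl⟩ := ZMod.ringHom_surjective (ZMod.castHom (dvd_mul_right 2 m) (ZMod 2)) i
    exact ⟨.a j, rfl⟩
  · obtain ⟨j, rfl⟩ := ZMod.ringHom_surjective (ZMod.castHom (dvd_mul_right 2 m) (ZMod 2)) i
    exact ⟨.xa j, rfl⟩

theorem quatToKlein_ker {m : ℕ} [NeZero m] (hm : 2 ∣ m) :
    (quatToKlein hm).ker ≤ Subgroup.zpowers (QuaternionGroup.a 1) := by
  rintro (i | i) hi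
  · refine ⟨(i.val : ℤ), ?_⟩
    show QuaternionGroup.a 1 ^ (i.val : ℤ) = _
    rw [zpow_natCast]
    simp [QuaternionGroup.a_one_pow]
  · exact absurd (MonoidHom.mem_ker.1 hi) (by simp [quatToKlein, DihedralGroup.one_def, -DihedralGroup.r_zero])

theorem quat_two_pow_four : ∀ x : QuaternionGroup (2 ^ 1), x ^ 4 = 1 := by decide +kernel

theorem klein_sq : ∀ u : DihedralGroup 2, u * u = 1 := by decide

theorem klein_four : ∀ u v w : DihedralGroup 2, u ≠ 1 → v ≠ 1 → u ≠ v →
    w = 1 ∨ w = u ∨ w = v ∨ w = u * v := by decide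

theorem eq_of_klein_mem {X : Type*} [Group X] [Finite X] {V : Subgroup X} (hV4 : Nat.card V = 4)
    (hsq : ∀ v ∈ V, v * v = 1) {v w u : X} (hv : v ∈ V) (hw : w ∈ V) (hu : u ∈ V) (hv1 : v ≠ 1) (hw1 : w ≠ 1)
    (hne : v ≠ w) : u = 1 ∨ u = v ∨ u = w ∨ u = v * w := by
  have hsub : ({1, v, w, v * w} : Set X) ⊆ V := by
    rintro x (rfl | rfl | rfl | rfl)
    exacts [V.one_mem, hv, hw, V.mul_mem hv hw]
  have h3 : v * w ≠ 1 := fun h => hne (by
    calc v = v * (w * w) := by rw [hsq w hw, mul_one]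
      _ = w := by rw [← mul_assoc, h, one_mul])
  have h4 : ({1, v, w, v * w} : Set X).ncard = 4 := by
    rw [Set.ncard_insert_of_notMem (by simp [hv1.symm, hw1.symm, h3.symm]) (Set.toFinite _),
      Set.ncard_insert_of_notMem (by simp [hne, hw1]) (Set.toFinite _),
      Set.ncard_insert_of_notMem (by simp [hv1]) (Set.toFinite _), Set.ncard_singleton]
  have h5 := Set.eq_of_subset_of_ncard_le hsub (by
    rw [h4, ← Nat.card_coe_set_eq]; exact hV4.le) (Set.toFinite _)
  have : u ∈ ({1, v, w, v * w} : Set X) := h5 ▸ hu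
  simpa using this

/-- A non-two-group with a self-centralizing normal four-group is `A₄` or `S₄`. -/
theorem klein_ext {X : Type*} [Group X] [Finite X] (V : Subgroup X) [hVn : V.Normal]
    (hV4 : Nat.card V = 4) (hsq : ∀ v ∈ V, v * v = 1)
    (hC : Subgroup.centralizer (V : Set X) ≤ V) (hnp : ¬ IsPGroup 2 X) :
    Nonempty (X ≃* alternatingGroup (Fin 4)) ∨ Nonempty (X ≃* Equiv.Perm (Fin 4)) := by
  classical
  have hVcomm : ∀ a ∈ V, ∀ b ∈ V, a * b = b * a := fun a ha b hb => by
    have h1 := inv_eq_of_mul_eq_one_right (hsq _ (V.mul_mem ha hb))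
    rw [mul_inv_rev, inv_eq_of_mul_eq_one_right (hsq a ha), inv_eq_of_mul_eq_one_right (hsq b hb)] at h1
    exact h1.symm
  let act : X →* Equiv.Perm {v : V // v ≠ 1} :=
    MonoidHom.mk' (fun q => ((MulAut.conjNormal q : MulAut V).toEquiv).subtypeEquiv (fun v => by simp))
      fun a b => Equiv.ext fun v => Subtype.ext (Subtype.ext (by simp [map_mul]))
  have hthree : Nat.card {v : V // v ≠ 1} = 3 := by
    haveI : Fintype V := Fintype.ofFinite _
    rw [Nat.card_eq_fintype_card, Fintype.card_subtype_compl, Fintype.card_subtype_eq,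
      ← Nat.card_eq_fintype_card, hV4]
  have hker : act.ker = V := by
    refine le_antisymm (fun q hq => hC (Subgroup.mem_centralizer_iff.2 fun v hv => ?_)) fun q hq => ?_
    · by_cases h1 : v = 1
      · rw [h1, one_mul, mul_one]
      · have h2 := congrArg (fun σ : Equiv.Perm {v : V // v ≠ 1} =>
          ((σ ⟨⟨v, hv⟩, fun h => h1 (congrArg Subtype.val h)⟩ : {v : V // v ≠ 1}).1 : X))
          (MonoidHom.mem_ker.1 hq)
        simp [act] at h2
        exact (mul_inv_eq_iff_eq_mul.1 h2).symm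
    · refine MonoidHom.mem_ker.2 (Equiv.ext fun v => Subtype.ext (Subtype.ext ?_))
      simp [act, hVcomm q hq _ v.1.2]
  have hX : Nat.card X = 4 * Nat.card act.range := by
    rw [← Subgroup.index_ker, hker, ← V.card_mul_index, hV4]
  have h6 : Nat.card act.range ∣ 6 := by
    have := Subgroup.card_subgroup_dvd_card act.range
    rwa [Nat.card_perm, hthree] at this
  have h12 : Nat.card X = 12 ∨ Nat.card X = 24 := by
    have hle := Nat.le_of_dvd (by norm_num) h6
    have key : ∀ j, Nat.card act.range ≠ 2 ^ j := by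
      intro j hj
      exact hnp (IsPGroup.of_card (n := j + 2) (by rw [hX, hj]; ring))
    have k0 := key 0
    have k1 := key 1
    have h0 := Nat.card_pos (α := act.range)
    interval_cases h : Nat.card act.range <;> simp_all
  haveI := Fact.mk Nat.prime_three
  have h3d : ∃ a, Nat.card X = 3 ^ 1 * a ∧ (a = 4 ∨ a = 8) := by
    rcases h12 with h | h
    · exact ⟨4, h, Or.inl rfl⟩
    · exact ⟨8, h, Or.inr rfl⟩
  obtain ⟨a, ha, ha'⟩ := h3d
  have ha3 : ¬ 3 ∣ a := by rcases ha' with rfl | rfl <;> norm_num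
  let P : Sylow 3 X := default
  have hPc : Nat.card (P : Subgroup X) = 3 := by
    simpa using SmallGroups.Sylow.card_sylow_eq P ha ha3
  have hPV : (P : Subgroup X) ⊓ V = ⊥ := (Subgroup.disjoint_of_coprime_natCard
    (by rw [hPc, hV4]; norm_num)).eq_bot
  have hfix : ∀ v ∈ V, (∀ x ∈ (P : Subgroup X), x * v = v * x) → v = 1 := by
    intro v hv hxv
    by_contra h1
    obtain ⟨x, hx, hx1⟩ := SetLike.not_le_iff_exists.1
      (show ¬ (P : Subgroup X) ≤ ⊥ from fun h => by
        rw [le_bot_iff.1 h, Subgroup.card_bot] at hPc; norm_num at hPc)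
    have hx3 : x ^ 3 = 1 := by
      have := pow_card_eq_one' (x := (⟨x, hx⟩ : (P : Subgroup X)))
      rw [hPc] at this
      exact congrArg Subtype.val this
    have hxv' : MulAut.conj x v = v := by
      rw [MulAut.conj_apply, hxv x hx, mul_inv_cancel_right]
    have hxC : x ∈ Subgroup.centralizer (V : Set X) := by
      refine Subgroup.mem_centralizer_iff.2 fun w hw => ?_
      suffices MulAut.conj x w = w by
        rw [MulAut.conj_apply] at this
        exact (mul_inv_eq_iff_eq_mul.1 this).symm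
      by_cases hw1 : w = 1
      · rw [hw1, map_one]
      by_cases hwv : w = v
      · rw [hwv, hxv']
      rcases eq_of_klein_mem hV4 hsq hv hw (show MulAut.conj x w ∈ V from hVn.conj_mem w hw x) h1 hw1
        (Ne.symm hwv) with e | e | e | e
      · exact absurd ((MulEquiv.map_eq_one_iff _).1 e) hw1
      · exact absurd ((MulAut.conj x).injective (e.trans hxv'.symm)) hwv
      · exact e
      · exfalso
        have e3 : (MulAut.conj x ^ 3) w = v * w := by
          simp only [pow_succ, pow_zero, one_mul, MulAut.mul_apply, e, map_mul, hxv']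
          rw [← mul_assoc v v, hsq v hv, one_mul]
        rw [← map_pow, hx3, map_one, MulAut.one_apply] at e3
        exact h1 (mul_eq_right.1 e3.symm)
    have : x ∈ (P : Subgroup X) ⊓ V := ⟨hx, hC hxC⟩
    rw [hPV] at this
    exact hx1 this
  have hn4 : Nat.card (Sylow 3 X) = 4 := by
    have hmem := SmallGroups.Sylow.card_sylow_mem ha ha3
    have hne : Nat.card (Sylow 3 X) ≠ 1 := by
      intro h1
      haveI := (Nat.card_eq_one_iff_unique.mp h1).1
      have hPn : (P : Subgroup X).Normal := P.normal_of_subsingleton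
      obtain ⟨v, hv, hv1⟩ := SetLike.not_le_iff_exists.1 (show ¬ V ≤ ⊥ from fun h => by
        rw [le_bot_iff.1 h, Subgroup.card_bot] at hV4; norm_num at hV4)
      refine hv1 (Subgroup.mem_bot.2 (hfix v hv fun x hx => ?_))
      have : x * v * x⁻¹ * v⁻¹ ∈ (P : Subgroup X) ⊓ V := by
        refine ⟨?_, V.mul_mem (hVn.conj_mem v hv x) (V.inv_mem hv)⟩
        rw [show x * v * x⁻¹ * v⁻¹ = x * (v * x⁻¹ * v⁻¹) by group]
        exact Subgroup.mul_mem _ hx (hPn.conj_mem _ (Subgroup.inv_mem _ hx) v)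
      rw [hPV, Subgroup.mem_bot] at this
      exact mul_inv_eq_iff_eq_mul.1 (mul_inv_eq_one.1 this)
    rcases ha' with rfl | rfl
    · rw [show (4 : ℕ).divisors.filter (fun d => d % 3 = 1) = {1, 4} by decide] at hmem
      simp only [Finset.mem_insert, Finset.mem_singleton] at hmem
      exact hmem.resolve_left hne
    · rw [show (8 : ℕ).divisors.filter (fun d => d % 3 = 1) = {1, 4} by decide] at hmem
      simp only [Finset.mem_insert, Finset.mem_singleton] at hmem
      exact hmem.resolve_left hne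
  let ψ := MulAction.toPermHom X (Sylow 3 X)
  have hψ : Function.Injective ψ := by
    rw [← MonoidHom.ker_eq_bot_iff]
    have hKV : ψ.ker ⊓ V = ⊥ := by
      refine (Subgroup.eq_bot_iff_forall _).2 fun v hv => hfix v hv.2 fun x hx => ?_
      have hn : v ∈ Subgroup.normalizer ((P : Subgroup X) : Set X) :=
        Sylow.smul_eq_iff_mem_normalizer.1
          (congrArg (fun σ : Equiv.Perm (Sylow 3 X) => σ P) (MonoidHom.mem_ker.1 hv.1))
      have : v * x * v⁻¹ * x⁻¹ ∈ (P : Subgroup X) ⊓ V := by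
        refine ⟨Subgroup.mul_mem _ ((Subgroup.mem_normalizer_iff.1 hn x).1 hx) (Subgroup.inv_mem _ hx), ?_⟩
        rw [show v * x * v⁻¹ * x⁻¹ = v * (x * v⁻¹ * x⁻¹) by group]
        exact V.mul_mem hv.2 (hVn.conj_mem _ (V.inv_mem hv.2) x)
      rw [hPV, Subgroup.mem_bot] at this
      exact (mul_inv_eq_iff_eq_mul.1 (mul_inv_eq_one.1 this)).symm
    refine (Subgroup.eq_bot_iff_forall _).2 fun q hq => ?_
    have hqV : q ∈ V := hC (Subgroup.mem_centralizer_iff.2 fun v hv => by
      have : q * v * q⁻¹ * v⁻¹ ∈ ψ.ker ⊓ V := by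
        refine ⟨?_, V.mul_mem (hVn.conj_mem v hv q) (V.inv_mem hv)⟩
        rw [show q * v * q⁻¹ * v⁻¹ = q * (v * q⁻¹ * v⁻¹) by group]
        exact ψ.ker.mul_mem hq ((inferInstance : ψ.ker.Normal).conj_mem _ (ψ.ker.inv_mem hq) v)
      rw [hKV, Subgroup.mem_bot] at this
      exact (mul_inv_eq_iff_eq_mul.1 (mul_inv_eq_one.1 this)).symm)
    have : q ∈ ψ.ker ⊓ V := ⟨hq, hqV⟩
    rw [hKV] at this
    exact this
  rcases h12 with h | h
  · exact Or.inl (alt_equiv ψ hψ hn4 (by rw [h]; rfl))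
  · exact Or.inr (perm_equiv ψ hψ hn4 (by rw [h]; rfl))

variable {F : Type*} [Field F] [IsAlgClosed F] {V : Type*} [AddCommGroup V] [Module F V]
  [FiniteDimensional F V] [Nontrivial V] {G : Type*} [Group G] [Finite G]
  {ρ : G →* Module.End F V} (hρ : IsLinFPF ρ)
include hρ

theorem two_cases (U : Subgroup G) (hU : IsPGroup 2 U) :
    IsCyclic U ∨ ∃ n : ℕ, 1 ≤ n ∧ Nonempty (U ≃* QuaternionGroup (2 ^ n)) := by
  have := Fact.mk Nat.prime_two
  refine (PGroups.isCyclic_or_quaternion hU fun a b ha hb => ?_).imp_right And.right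
  · have hne : ∀ c : U, orderOf c = 2 → (c : G) ≠ 1 ∧ (c : G) ^ 2 = 1 := fun c hc => by
      constructor
      · intro h
        rw [← Subgroup.orderOf_coe, h, orderOf_one] at hc
        norm_num at hc
      · rw [← hc, ← Subgroup.orderOf_coe, pow_orderOf_eq_one]
    have : a = b := Subtype.ext (involution_unique hρ (hne a ha).1 (hne a ha).2 (hne b hb).1 (hne b hb).2)
    exact this ▸ Subgroup.mem_zpowers a

theorem zg_of_two {N : Subgroup G} (h : ∀ U : Subgroup G, U ≤ N → IsPGroup 2 U → IsCyclic U) : ZG N := by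
  intro p hp P hPN hPp
  by_cases hp2 : p = 2
  · subst hp2; exact h P hPN hPp
  · exact sylow_odd_cyclic hρ hp2 P hPp

/-- If the image of `N` modulo an odd order kernel has cyclic two-part, then `N` is `ZG`. -/
theorem zg_of_image {K : Type*} [Group K] (π : G →* K) (hker : ∀ g ∈ π.ker, Odd (orderOf g))
    {N : Subgroup G} {C : Subgroup K} (hC : IsCyclic C) (hN : ∀ U : Subgroup G, U ≤ N → IsPGroup 2 U → U.map π ≤ C) :
    ZG N := by
  refine zg_of_two hρ fun U hU hUp => ?_
  have hinj : ∀ u ∈ U, π u = 1 → u = 1 := by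
    intro u hu h1
    obtain ⟨k, hk⟩ := hUp ⟨u, hu⟩
    have h2 := orderOf_dvd_of_pow_eq_one (show u ^ 2 ^ k = 1 from congrArg Subtype.val hk)
    exact orderOf_eq_one_iff.1 (Nat.eq_one_of_dvd_coprimes
      ((Nat.coprime_two_right.2 (hker u h1)).pow_right k) dvd_rfl h2)
  have h1 : IsCyclic (U.map π) := Subgroup.isCyclic_of_le (hN U hU hUp)
  exact isCyclic_of_injective (π.subgroupMap U) fun a b hab => by
    have h2 : π (a : G) = π b := congrArg Subtype.val hab
    exact Subtype.ext (eq_of_inv_mul_eq_one (hinj _ (U.mul_mem (U.inv_mem a.2) b.2)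
      (by rw [map_mul, map_inv, h2, inv_mul_cancel])))

theorem quaternion_of_not_zg (hz : ¬ ZG (⊤ : Subgroup G)) (S : Sylow 2 G) :
    ∃ n : ℕ, 1 ≤ n ∧ Nonempty ((S : Subgroup G) ≃* QuaternionGroup (2 ^ n)) := by
  refine (two_cases hρ _ S.2).resolve_left fun hc => hz (zg_of_two hρ fun U _ hU => ?_)
  have := Fact.mk Nat.prime_two
  obtain ⟨T, hT⟩ := hU.exists_le_sylow
  obtain ⟨g, hg⟩ := MulAction.exists_smul_eq G S T
  have : IsCyclic (T : Subgroup G) := by
    rw [← hg]
    exact (Sylow.equiv _ _).isCyclic.1 hc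
  exact Subgroup.isCyclic_of_le hT

theorem sqSub_index_le (hz : ¬ ZG (⊤ : Subgroup G)) : (sqSub G).index ≤ 4 := by
  classical
  have := Fact.mk Nat.prime_two
  set π := QuotientGroup.mk' (sqSub G) with hπ
  have hexp : ∀ q : G ⧸ sqSub G, q * q = 1 := fun q => by
    induction q using QuotientGroup.induction_on with
    | H g => exact (QuotientGroup.eq_one_iff _).2 (Subgroup.subset_closure ⟨g, rfl⟩)
  let S : Sylow 2 G := default
  obtain ⟨n, hn, ⟨e⟩⟩ := quaternion_of_not_zg hρ hz S
  haveI : NeZero (2 ^ n) := ⟨by positivity⟩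
  let T := S.mapSurjective (QuotientGroup.mk'_surjective (sqSub G))
  have hT : ((T : Sylow 2 (G ⧸ sqSub G)) : Subgroup (G ⧸ sqSub G)) = ⊤ :=
    (T.3 (Q := ⊤) (fun q => ⟨1, Subtype.ext (by rw [pow_one, sq]; exact hexp q)⟩) le_top).symm
  set x := π (e.symm (QuaternionGroup.a 1)) with hx
  set y := π (e.symm (QuaternionGroup.xa 0)) with hy
  have hpow : ∀ i : ℕ, x ^ i = 1 ∨ x ^ i = x := by
    intro i
    induction i with
    | zero => exact Or.inl (pow_zero x)
    | succ i ih =>
      rcases ih with h | h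
      · right; rw [pow_succ, h, one_mul]
      · left; rw [pow_succ, h, hexp]
  have hall : ∀ q : G ⧸ sqSub G, q ∈ ({1, x, y, y * x} : Finset _) := by
    intro q
    obtain ⟨s, hs, rfl⟩ := hT.ge (Subgroup.mem_top q)
    obtain ⟨u, hu⟩ : ∃ u, (e.symm u : G) = s := ⟨e ⟨s, hs⟩, by simp⟩
    simp only [Finset.mem_insert, Finset.mem_singleton]
    show π s = 1 ∨ π s = x ∨ π s = y ∨ π s = y * x
    rw [← hu]
    rcases u with i | i
    · rw [show (QuaternionGroup.a i : QuaternionGroup (2 ^ n)) = .a 1 ^ i.val by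
        simp [QuaternionGroup.a_one_pow], map_pow, Subgroup.coe_pow, map_pow, ← hx]
      rcases hpow i.val with h | h <;> simp [h]
    · rw [show (QuaternionGroup.xa i : QuaternionGroup (2 ^ n)) = .xa 0 * .a 1 ^ i.val by
        simp [QuaternionGroup.a_one_pow], map_mul, Subgroup.coe_mul, map_mul, map_pow, Subgroup.coe_pow,
        map_pow, ← hx, ← hy]
      rcases hpow i.val with h | h <;> simp [h]
  haveI : Fintype (G ⧸ sqSub G) := Fintype.ofFinite _
  calc (sqSub G).index = (Finset.univ : Finset (G ⧸ sqSub G)).card := by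
        rw [Finset.card_univ, ← Nat.card_eq_fintype_card]; rfl
    _ ≤ ({1, x, y, y * x} : Finset _).card := Finset.card_le_card fun q _ => hall q
    _ ≤ 4 := Finset.card_le_four

/-! ### Existence -/

theorem exists_nonsolvable (hns : ¬ Group.IsSolvable G) :
    ∃ N : Subgroup G, ∃ _ : N.Normal, ZG N ∧
      (Nonempty ((G ⧸ N) ≃* alternatingGroup (Fin 5)) ∨ Nonempty ((G ⧸ N) ≃* Equiv.Perm (Fin 5))) := by
  classical
  obtain ⟨f, hf, hRn, -, M, hMn, hcomm, hM30, -, hRM, hCR, hDn, hidx⟩ :=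
    FpfLinear.NonSolvable.decomposition hρ hns
  set R := f.range with hR
  set z := f FpfLinear.Hom.sN with hz
  have hz1 : z ≠ 1 := fun h => FpfLinear.NonSolvable.sN_ne (hf (h.trans (map_one f).symm))
  have hz2 : z ^ 2 = 1 := by rw [hz, ← map_pow, FpfLinear.NonSolvable.sN_sq, map_one]
  have hzc : ∀ g, z * g = g * z := involution_comm hρ hz1 hz2
  set Z := Subgroup.zpowers z with hZ
  haveI : Z.Normal := ⟨fun x hx g => by
    obtain ⟨k, rfl⟩ := Subgroup.mem_zpowers_iff.1 hx
    rw [((show Commute z g from hzc g).zpow_left k).symm.eq, mul_inv_cancel_right]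
    exact Subgroup.mem_zpowers_iff.2 ⟨k, rfl⟩⟩
  have hZR : Z ≤ R := Subgroup.zpowers_le.2 ⟨_, rfl⟩
  set N := M ⊔ Z with hN
  haveI : N.Normal := Subgroup.sup_normal M Z
  refine ⟨N, inferInstance, ?_, ?_⟩
  · refine zg_of_image hρ (QuotientGroup.mk' M) (C := Z.map (QuotientGroup.mk' M)) (fun g hg => ?_)
      (isCyclic_of_surjective _ ((QuotientGroup.mk' M).subgroupMap_surjective Z)) fun U hU _ => ?_
    · rw [QuotientGroup.ker_mk'] at hg
      refine Nat.coprime_two_right.1 (Nat.Coprime.coprime_dvd_left ?_ (hM30.coprime_dvd_right (by norm_num)))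
      exact Subgroup.orderOf_mk g hg ▸ orderOf_dvd_natCard (⟨g, hg⟩ : M)
    · refine (Subgroup.map_mono hU).trans ?_
      rw [hN, Subgroup.map_sup, QuotientGroup.map_mk'_self, bot_sup_eq]
  have hRN : ∀ r ∈ R, r ∈ N → r ∈ Z := by
    intro r hr hrN
    obtain ⟨m, hm, w, hw, rfl⟩ := Subgroup.mem_sup_of_normal_left.1 hrN
    have : m ∈ R ⊓ M := ⟨by simpa using R.mul_mem hr (R.inv_mem (hZR hw)), hm⟩
    rw [hRM, Subgroup.mem_bot] at this
    rw [this, one_mul]
    exact hw
  set π := QuotientGroup.mk' N with hπ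
  set D := R.map π with hD
  haveI hDn' : D.Normal := hRn.map π (QuotientGroup.mk'_surjective N)
  have hperf : commutator FpfLinear.Hom.SL = ⊤ :=
    haveI := Fact.mk (show Nat.Prime 5 by norm_num)
    Linear.commutator_SL_eq_top (F := ZMod 5) le_rfl fun _ => by rw [Nat.card_zmod]; norm_num
  have hcardR : Nat.card R = 120 := by
    rw [← Nat.card_congr (MonoidHom.ofInjective hf).toEquiv]
    exact Spectrum.TinyEnum.card_sl25
  have hcardZ : Nat.card Z = 2 := by rw [Nat.card_zpowers]; exact orderOf_eq_prime hz2 hz1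
  have hcardD : Nat.card D = 60 := by
    have h1 : Z.subgroupOf R = N.subgroupOf R := by
      ext ⟨r, hr⟩
      exact ⟨fun h => Subgroup.mem_sup_right h, fun h => hRN r hr h⟩
    have h2 := Subgroup.relIndex_ker (K := R) π
    rw [hπ, QuotientGroup.ker_mk'] at h2
    have h3 : Z.relIndex R = Nat.card D := by
      rw [← h2]; exact congrArg Subgroup.index h1
    have h4 := (Z.subgroupOf R).card_mul_index
    rw [Nat.card_congr (Subgroup.subgroupOfEquivOfLe hZR).toEquiv, hcardZ, hcardR] at h4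
    have h5 : Z.relIndex R = (Z.subgroupOf R).index := rfl
    omega
  have hDs : ¬ Group.IsSolvable D := by
    intro hs
    haveI := hs
    let g : FpfLinear.Hom.SL →* D := (π.subgroupMap R).comp f.rangeRestrict
    have hg : Function.Surjective g :=
      (π.subgroupMap_surjective R).comp f.rangeRestrict_surjective
    have := FpfLinear.Perfect.subsingleton_of_perfect (FpfLinear.Perfect.perfect_of_surjective g hg hperf)
    have := Nat.card_of_subsingleton (1 : D)
    omega
  -- the centralizer of `D` is trivial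
  have hcen : ∀ q : G ⧸ N, (∀ d ∈ D, q * d = d * q) → q = 1 := by
    intro q hq
    obtain ⟨g, rfl⟩ := QuotientGroup.mk'_surjective N q
    have hc : ∀ r ∈ R, ∃ c : G, (∀ h, c * h = h * c) ∧ g * r * g⁻¹ = c * r := by
      intro r hr
      refine ⟨g * r * g⁻¹ * r⁻¹, ?_, by group⟩
      have h1 : g * r * g⁻¹ * r⁻¹ ∈ Z := by
        refine hRN _ (R.mul_mem (hRn.conj_mem r hr g) (R.inv_mem hr)) ((QuotientGroup.eq_one_iff _).1 ?_)
        show π (g * r * g⁻¹ * r⁻¹) = 1
        simp only [map_mul, map_inv]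
        rw [hq (π r) ⟨r, hr, rfl⟩, ← hπ]
        group
      obtain ⟨k, hk⟩ := Subgroup.mem_zpowers_iff.1 h1
      intro h
      rw [← hk]
      exact ((show Commute z h from hzc h).zpow_left k).eq
    have hgC : g ∈ Subgroup.centralizer (R : Set G) := by
      let c₀ := (MulAut.conj g).toMonoidHom.comp f
      have hker : commutator FpfLinear.Hom.SL ≤ c₀.eqLocus f := by
        rw [commutator_def, Subgroup.commutator_le]
        intro u _ v _
        obtain ⟨c, hc1, hc2⟩ := hc (f u) ⟨u, rfl⟩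
        obtain ⟨d, hd1, hd2⟩ := hc (f v) ⟨v, rfl⟩
        show g * f ⁅u, v⁆ * g⁻¹ = f ⁅u, v⁆
        rw [map_commutatorElement, conjugate_commutatorElement, hc2, hd2, commutatorElement_def,
          commutatorElement_def, mul_inv_rev, mul_inv_rev]
        calc c * f u * (d * f v) * ((f u)⁻¹ * c⁻¹) * ((f v)⁻¹ * d⁻¹)
            = c * (f u * d) * f v * (f u)⁻¹ * (c⁻¹ * (f v)⁻¹) * d⁻¹ := by group
          _ = c * d * (f u * f v * (f u)⁻¹ * (f v)⁻¹) * c⁻¹ * d⁻¹ := by
              rw [← hd1 (f u), show c⁻¹ * (f v)⁻¹ = (f v)⁻¹ * c⁻¹ from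
                ((show Commute c (f v)⁻¹ from hc1 _).inv_left).eq]
              group
          _ = f u * f v * (f u)⁻¹ * (f v)⁻¹ := by
              generalize f u * f v * (f u)⁻¹ * (f v)⁻¹ = K
              calc c * d * K * c⁻¹ * d⁻¹ = c * (d * K) * c⁻¹ * d⁻¹ := by group
                _ = c * K * (d * c⁻¹) * d⁻¹ := by rw [hd1 K]; group
                _ = K * c * (c⁻¹ * d) * d⁻¹ := by rw [hc1 K, hd1 c⁻¹]
                _ = K := by group
      refine Subgroup.mem_centralizer_iff.2 ?_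
      rintro _ ⟨u, rfl⟩
      have h := hker (hperf.ge (Subgroup.mem_top u))
      exact (mul_inv_eq_iff_eq_mul.1 h).symm
    obtain ⟨r, hr, m, hm, rfl⟩ := Subgroup.mem_sup_of_normal_right.1 (hCR hgC)
    obtain ⟨u, rfl⟩ := hr
    refine (QuotientGroup.eq_one_iff _).2 (N.mul_mem (Subgroup.mem_sup_right ?_) (Subgroup.mem_sup_left hm))
    have hu : ∀ v, f v * f u = f u * f v := by
      intro v
      have h1 : f v * (f u * m) = f u * m * f v := Subgroup.mem_centralizer_iff.1 hgC _ ⟨v, rfl⟩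
      have h2 : f v * m = m * f v := hcomm _ ⟨v, rfl⟩ m hm
      exact mul_right_cancel (b := m) (by rw [mul_assoc, h1, mul_assoc, ← h2, ← mul_assoc])
    rcases FpfLinear.NonSolvable.eq_one_or_N (g := u) (hf (by rw [map_mul, map_mul]; exact hu _))
      (hf (by rw [map_mul, map_mul]; exact hu _)) with rfl | rfl
    · rw [map_one]; exact one_mem _
    · exact Subgroup.mem_zpowers _
  have hDidx : D.index = (R ⊔ M).index := by
    rw [hD, Subgroup.index_map, hπ, QuotientGroup.ker_mk',
      MonoidHom.range_eq_top.2 (QuotientGroup.mk'_surjective N), Subgroup.index_top, mul_one]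
    congr 1
    refine le_antisymm (sup_le le_sup_left (sup_le le_sup_right (hZR.trans le_sup_left)))
      (sup_le le_sup_left (le_sup_left.trans le_sup_right))
  have hX := D.card_mul_index
  rw [hcardD, hDidx] at hX
  rcases hidx with h1 | h2
  · left
    rw [h1, mul_one] at hX
    refine Spectrum.nonempty_equiv_a5_of_card_sixty hX.symm fun hs => hDs ?_
    haveI := hs
    exact inferInstance
  · right
    rw [h2] at hX
    obtain ⟨eA⟩ := Spectrum.nonempty_equiv_a5_of_card_sixty hcardD hDs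
    haveI : IsSimpleGroup (alternatingGroup (Fin 5)) := alternatingGroup.isSimpleGroup (by simp)
    haveI : IsSimpleGroup D := eA.isSimpleGroup
    have hnc : ¬ IsMulCommutative D := SmallGroups.Sylow.not_comm_of_card (by rw [hcardD]; norm_num)
    haveI := Fact.mk Nat.prime_two
    have h60 : Nat.card D = 2 ^ 2 * 15 := hcardD
    have hn5 : Nat.card (Sylow 2 D) = 5 := by
      have hmem := SmallGroups.Sylow.card_sylow_mem (G := D) (p := 2) h60 (by norm_num)
      rw [show (15 : ℕ).divisors.filter (fun d => d % 2 = 1) = {1, 3, 5, 15} by decide] at hmem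
      simp only [Finset.mem_insert, Finset.mem_singleton] at hmem
      have hne1 := SmallGroups.Sylow.card_sylow_ne_one (G := D) (p := 2) h60 (by norm_num) (by norm_num) (by norm_num)
      rcases hmem with h | h | h | h
      · exact absurd h hne1
      · have := SmallGroups.Sylow.two_mul_card_dvd_sylow_factorial (G := D) (p := 2) hnc hne1
        rw [h, hcardD] at this
        norm_num [Nat.factorial] at this
      · exact h
      · exfalso
        let P : Sylow 2 D := default
        have hP : Nat.card (P : Subgroup D) = 2 ^ 2 := SmallGroups.Sylow.card_sylow_eq P h60 (by norm_num)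
        refine SmallGroups.Sylow.not_normalizer_le_centralizer hnc P (fun hb => by
          rw [hb, Subgroup.card_bot] at hP; norm_num at hP) ?_
        have hidx' := SmallGroups.Sylow.card_normalizer_mul P
        rw [h, hcardD] at hidx'
        have hNP : Subgroup.normalizer ((P : Subgroup D) : Set D) = (P : Subgroup D) :=
          (Subgroup.eq_of_le_of_card_ge Subgroup.le_normalizer (by omega)).symm
        rw [hNP]
        have : IsMulCommutative (P : Subgroup D) :=
          ⟨⟨IsPGroup.commutative_of_card_eq_prime_sq (p := 2) hP⟩⟩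
        exact Subgroup.le_centralizer_iff_isMulCommutative.2 this
    let φ : G ⧸ N →* Equiv.Perm (Sylow 2 D) :=
      (MulAction.toPermHom (MulAut D) (Sylow 2 D)).comp MulAut.conjNormal
    refine perm_equiv φ ?_ hn5 (by rw [← hX]; rfl)
    rw [← MonoidHom.ker_eq_bot_iff]
    rcases IsSimpleGroup.eq_bot_or_eq_top_of_normal (φ.ker.subgroupOf D) inferInstance with hb | ht
    · refine (Subgroup.eq_bot_iff_forall _).2 fun q hq => hcen q fun d hd => ?_
      have h1 : q * d * q⁻¹ * d⁻¹ ∈ φ.ker ⊓ D := by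
        refine ⟨?_, D.mul_mem (hDn'.conj_mem d hd q) (D.inv_mem hd)⟩
        rw [show q * d * q⁻¹ * d⁻¹ = q * (d * q⁻¹ * d⁻¹) by group]
        exact φ.ker.mul_mem hq ((inferInstance : φ.ker.Normal).conj_mem _ (φ.ker.inv_mem hq) d)
      rw [disjoint_iff.1 (Subgroup.subgroupOf_eq_bot.1 hb), Subgroup.mem_bot] at h1
      exact mul_inv_eq_iff_eq_mul.1 (mul_inv_eq_one.1 h1)
    · exfalso
      have hfix : ∀ (P : Sylow 2 D) (d : D), d ∈ Subgroup.normalizer ((P : Subgroup D) : Set D) := by
        intro P d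
        have h1 := congrArg (fun σ : Equiv.Perm (Sylow 2 D) => σ P)
          (MonoidHom.mem_ker.1 (show (d : G ⧸ N) ∈ φ.ker from ht.ge (Subgroup.mem_top d)))
        have h2 : (MulAut.conjNormal (d : G ⧸ N) : MulAut D) = MulAut.conj d :=
          MulEquiv.ext fun x => Subtype.ext (by simp)
        refine Sylow.smul_eq_iff_mem_normalizer.1 ?_
        show (MulAut.conj d) • P = P
        rw [← h2]
        exact h1
      exact SmallGroups.Sylow.normalizer_ne_top (default : Sylow 2 D) (by omega)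
        (eq_top_iff.2 fun d _ => hfix _ d)

set_option maxHeartbeats 1000000 in
theorem exists_solvable [Group.IsSolvable G] (hz : ¬ ZG (⊤ : Subgroup G)) :
    ∃ N : Subgroup G, ∃ _ : N.Normal, ZG N ∧ (Nonempty ((G ⧸ N) ≃* DihedralGroup 2) ∨
      Nonempty ((G ⧸ N) ≃* alternatingGroup (Fin 4)) ∨ Nonempty ((G ⧸ N) ≃* Equiv.Perm (Fin 4))) := by
  classical
  haveI := Fact.mk Nat.prime_two
  let S : Sylow 2 G := default
  obtain ⟨n, hn, ⟨e⟩⟩ := quaternion_of_not_zg hρ hz S
  set O := pPrimeCore 2 G with hO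
  set π := QuotientGroup.mk' O with hπ
  have hπs := QuotientGroup.mk'_surjective O
  have hodd : ∀ g ∈ π.ker, Odd (orderOf g) := by
    intro g hg
    rw [hπ, QuotientGroup.ker_mk'] at hg
    exact Nat.coprime_two_right.1 ((Cores.pPrimeCore_coprime (G := G) 2).coprime_dvd_left
      (Subgroup.orderOf_mk g hg ▸ orderOf_dvd_natCard (⟨g, hg⟩ : O)))
  have hinj : ∀ (U : Subgroup G), IsPGroup 2 U → Function.Injective (π.subgroupMap U) := by
    intro U hU
    refine (injective_iff_map_eq_one _).2 fun u hu => ?_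
    obtain ⟨k, hk⟩ := hU u
    exact orderOf_eq_one_iff.1 (Nat.eq_one_of_dvd_coprimes
      ((Nat.coprime_two_right.2 (hodd u (congrArg Subtype.val hu))).pow_right k)
      (Subgroup.orderOf_coe u).symm.dvd (orderOf_dvd_of_pow_eq_one hk))
  -- two-subgroups of the quotient lift
  have hlift : ∀ U : Subgroup (G ⧸ O), IsPGroup 2 U →
      ∃ U' : Subgroup G, IsPGroup 2 U' ∧ U'.map π = U ∧ Nonempty (U' ≃* U) := by
    intro U hU
    obtain ⟨T, hT⟩ := hU.exists_le_sylow
    obtain ⟨c, hc⟩ := MulAction.exists_smul_eq (G ⧸ O) (S.mapSurjective hπs) T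
    obtain ⟨g, rfl⟩ := hπs c
    let T' : Sylow 2 G := g • S
    have hT' : (T' : Subgroup G).map π = (T : Subgroup (G ⧸ O)) := by
      rw [← hc]
      show ((g • S : Sylow 2 G) : Subgroup G).map π = _
      ext q
      simp only [Sylow.coe_subgroup_smul, Subgroup.mem_map, Subgroup.mem_smul_pointwise_iff_exists,
        Sylow.coe_mapSurjective, MulAut.smul_def, MulAut.conj_apply]
      constructor
      · rintro ⟨_, ⟨s, hs, rfl⟩, rfl⟩
        exact ⟨π s, ⟨s, hs, rfl⟩, by simp [hπ]⟩
      · rintro ⟨_, ⟨s, hs, rfl⟩, rfl⟩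
        exact ⟨_, ⟨s, hs, rfl⟩, by simp [hπ]⟩
    refine ⟨(T' : Subgroup G) ⊓ U.comap π, T'.2.to_le inf_le_left, ?_, ?_⟩
    · refine le_antisymm (Subgroup.map_le_iff_le_comap.2 inf_le_right) fun u hu => ?_
      obtain ⟨t, ht, rfl⟩ := hT'.ge (hT hu)
      exact ⟨t, ⟨ht, hu⟩, rfl⟩
    · have he : ((T' : Subgroup G) ⊓ U.comap π).map π = U := by
        refine le_antisymm (Subgroup.map_le_iff_le_comap.2 inf_le_right) fun u hu => ?_
        obtain ⟨t, ht, rfl⟩ := hT'.ge (hT hu)
        exact ⟨t, ⟨ht, hu⟩, rfl⟩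
      exact ⟨(MulEquiv.ofBijective _ ⟨hinj _ (T'.2.to_le inf_le_left), π.subgroupMap_surjective _⟩).trans
        (MulEquiv.subgroupCongr he)⟩
  by_cases hK : IsPGroup 2 (G ⧸ O)
  · -- a two-group quotient
    have hS : (S : Subgroup G).map π = ⊤ :=
      ((S.mapSurjective hπs).3 (Q := ⊤) (hK.to_subgroup ⊤) le_top).symm
    let eK : G ⧸ O ≃* QuaternionGroup (2 ^ n) :=
      (((MulEquiv.ofBijective _ ⟨hinj _ S.2, π.subgroupMap_surjective _⟩).trans
        (MulEquiv.subgroupCongr hS)).trans Subgroup.topEquiv).symm.trans e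
    haveI : NeZero (2 ^ n) := ⟨by positivity⟩
    have hmd : 2 ∣ 2 ^ n := dvd_pow_self 2 (by omega)
    let h := quatToKlein (m := 2 ^ n) hmd
    let φ : G →* DihedralGroup 2 := h.comp (eK.toMonoidHom.comp π)
    have hφ : Function.Surjective φ :=
      (quatToKlein_surjective hmd).comp (eK.surjective.comp hπs)
    refine ⟨φ.ker, inferInstance, ?_, Or.inl ⟨QuotientGroup.quotientKerEquivOfSurjective φ hφ⟩⟩
    refine zg_of_image hρ π hodd (C := (Subgroup.zpowers (QuaternionGroup.a 1)).comap eK.toMonoidHom) ?_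
      fun U hU _ => ?_
    · exact (eK.symm.subgroupMap (Subgroup.zpowers (QuaternionGroup.a (1 : ZMod (2 * 2 ^ n))))).trans
        (MulEquiv.subgroupCongr (Subgroup.comap_equiv_eq_map_symm eK _).symm) |>.isCyclic.1 inferInstance
    · rintro _ ⟨u, hu, rfl⟩
      exact quatToKlein_ker hmd (hU hu)
  -- otherwise the two-core is a quaternion group of order eight
  set Fc := pCore 2 (G ⧸ O) with hFc
  have hCF : Subgroup.centralizer (Fc : Set (G ⧸ O)) ≤ Fc := PSolvable.centralizer_pCore_le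
    (PSolvable.isPSolvable_quotient PSolvable.isPSolvable_of_isSolvable O)
    (Cores.pPrimeCore_quotient_pPrimeCore 2)
  have hFp : IsPGroup 2 Fc := Cores.pCore_isPGroup 2
  have hnot : ¬ ∀ g : G ⧸ O, Odd (orderOf g) → g ∈ Subgroup.centralizer (Fc : Set (G ⧸ O)) := by
    intro hall
    refine hK (IsPGroup.iff_card.2 ?_)
    refine ⟨_, Nat.eq_prime_pow_of_unique_prime_dvd Nat.card_pos.ne' fun {q} hq hqd => ?_⟩
    haveI := Fact.mk hq
    obtain ⟨g, hg⟩ := exists_prime_orderOf_dvd_card' q hqd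
    by_contra hq2
    have hgo : Odd (orderOf g) := hg ▸ hq.odd_of_ne_two hq2
    obtain ⟨k, hk⟩ := hFp ⟨g, hCF (hall g hgo)⟩
    have h1 := orderOf_dvd_of_pow_eq_one (show g ^ 2 ^ k = 1 from congrArg Subtype.val hk)
    rw [hg] at h1
    exact hq2 ((Nat.prime_dvd_prime_iff_eq hq Nat.prime_two).1 (hq.dvd_of_dvd_pow h1))
  obtain ⟨F', hF'p, -, ⟨eF⟩⟩ := hlift Fc hFp
  have hAut : ∀ g : G ⧸ O, ∀ φ : MulAut Fc, φ = MulAut.conjNormal g → φ = 1 →
      g ∈ Subgroup.centralizer (Fc : Set (G ⧸ O)) := by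
    rintro g φ rfl h1
    refine Subgroup.mem_centralizer_iff.2 fun f hf => ?_
    have h2 := congrArg (fun ψ : MulAut Fc => ((ψ ⟨f, hf⟩ : Fc) : G ⧸ O)) h1
    simp only [MulAut.conjNormal_apply, MulAut.one_apply] at h2
    exact (mul_inv_eq_iff_eq_mul.1 h2).symm
  have hpow : ∀ g : G ⧸ O, (MulAut.conjNormal g : MulAut Fc) ^ orderOf g = 1 := fun g => by
    rw [← map_pow, pow_orderOf_eq_one, map_one]
  rcases two_cases hρ F' hF'p with hc | ⟨k, hk, ⟨eQ⟩⟩
  · refine absurd (fun g hg => hAut g _ rfl ?_) hnot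
    haveI : IsCyclic Fc := eF.isCyclic.1 hc
    obtain ⟨j, hj⟩ := IsPGroup.iff_card.1 hFp
    have h := orderOf_dvd_natCard (MulAut.conjNormal g : MulAut Fc)
    have h' := orderOf_dvd_of_pow_eq_one (hpow g)
    refine orderOf_eq_one_iff.1 ?_
    rcases j with _ | j
    · rw [IsCyclic.card_mulAut, hj, pow_zero, Nat.totient_one] at h
      exact Nat.dvd_one.1 h
    · rw [IsCyclic.card_mulAut, hj, Nat.totient_prime_pow_succ Nat.prime_two,
        show 2 - 1 = 1 from rfl, mul_one] at h
      exact Nat.eq_one_of_dvd_coprimes ((Nat.coprime_two_right.2 hg).pow_right j) h' h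
  rcases eq_or_lt_of_le hk with rfl | hk2
  swap
  · refine absurd (fun g hg => hAut g _ rfl ?_) hnot
    let eFQ : Fc ≃* QuaternionGroup (2 ^ k) := eF.symm.trans eQ
    refine (MulAut.congr eFQ).injective ((quaternion_aut_big rfl
      (Nat.pow_le_pow_right (n := 2) (by norm_num) hk2) _ (r := orderOf g)
      (by rw [← map_pow, hpow, map_one]) (by rwa [← even_iff_two_dvd, Nat.not_even_iff_odd])).trans
        (map_one _).symm)
  -- `Fc ≅ Q₈`
  have hF8 : Nat.card Fc = 8 := by
    haveI : NeZero (2 ^ 1) := ⟨by norm_num⟩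
    rw [Nat.card_congr (eF.symm.trans eQ).toEquiv, Nat.card_eq_fintype_card, QuaternionGroup.card]; rfl
  obtain ⟨z₀, hz₀⟩ := exists_prime_orderOf_dvd_card' (G := G) 2 (by
    have h2 : 2 ∣ Nat.card (G ⧸ O) := by
      refine dvd_trans ?_ (Subgroup.card_subgroup_dvd_card Fc)
      rw [hF8]; norm_num
    exact h2.trans (Subgroup.card_quotient_dvd_card O))
  have hz₀1 : z₀ ≠ 1 := fun h => by rw [h, orderOf_one] at hz₀; norm_num at hz₀
  have hz₀2 : z₀ ^ 2 = 1 := hz₀ ▸ pow_orderOf_eq_one z₀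
  set z := π z₀ with hzdef
  have hzc : ∀ q : G ⧸ O, z * q = q * z := by
    intro q
    obtain ⟨g, rfl⟩ := hπs q
    rw [hzdef, ← map_mul, ← map_mul, involution_comm hρ hz₀1 hz₀2 g]
  set Zc := Subgroup.zpowers z with hZc
  haveI : Zc.Normal := ⟨fun x hx g => by
    obtain ⟨i, rfl⟩ := Subgroup.mem_zpowers_iff.1 hx
    rw [((show Commute z g from hzc g).zpow_left i).symm.eq, mul_inv_cancel_right]
    exact Subgroup.mem_zpowers_iff.2 ⟨i, rfl⟩⟩
  have hz1 : z ≠ 1 := fun h => hz₀1 (orderOf_eq_one_iff.1 (Nat.eq_one_of_dvd_coprimes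
    (Nat.coprime_two_right.2 (hodd z₀ h)) dvd_rfl hz₀.dvd))
  have hz2 : z ^ 2 = 1 := by rw [hzdef, ← map_pow, hz₀2, map_one]
  have hZcard : Nat.card Zc = 2 := by rw [Nat.card_zpowers]; exact orderOf_eq_prime hz2 hz1
  have hZF : Zc ≤ Fc := Cores.le_pCore (IsPGroup.of_card (n := 1) (by rw [hZcard]; rfl))
  -- squares of `Fc` lie in `Zc`
  have hsqF : ∀ f ∈ Fc, f * f ∈ Zc := by
    intro f hf
    obtain ⟨F'', hF''p, hF''m, -⟩ := hlift Fc hFp
    obtain ⟨f', hf', rfl⟩ := hF''m.ge hf
    rw [← map_mul]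
    by_cases h1 : f' * f' = 1
    · rw [h1, map_one]; exact one_mem _
    · have h4 : (f' * f') ^ 2 = 1 := by
        obtain ⟨j, hj⟩ := hF''p ⟨f', hf'⟩
        have hle : orderOf (⟨f', hf'⟩ : F'') ∣ 4 := by
          have eF'' : F'' ≃* QuaternionGroup (2 ^ 1) := by
            exact ((MulEquiv.ofBijective _ ⟨hinj _ hF''p, π.subgroupMap_surjective _⟩).trans
              (MulEquiv.subgroupCongr hF''m)).trans (eF.symm.trans eQ)
          rw [← eF''.orderOf_eq]
          exact orderOf_dvd_of_pow_eq_one (quat_two_pow_four _)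
        have := orderOf_dvd_iff_pow_eq_one.1 hle
        calc (f' * f') ^ 2 = f' ^ 4 := by rw [← pow_two, ← pow_mul]
          _ = 1 := congrArg Subtype.val this
      rw [involution_unique hρ h1 h4 hz₀1 hz₀2]
      exact Subgroup.mem_zpowers z
  set π₂ := QuotientGroup.mk' Zc with hπ₂
  set Vb := Fc.map π₂ with hVb
  haveI : Vb.Normal := (pCore_normal 2 (G ⧸ O)).map π₂ (QuotientGroup.mk'_surjective Zc)
  have hVsq : ∀ v ∈ Vb, v * v = 1 := by
    rintro _ ⟨f, hf, rfl⟩
    rw [← map_mul]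
    exact (QuotientGroup.eq_one_iff _).2 (hsqF f hf)
  have hVcard : Nat.card Vb = 4 := by
    have h1 := Subgroup.relIndex_ker (K := Fc) π₂
    rw [hπ₂, QuotientGroup.ker_mk'] at h1
    have h2 := (Zc.subgroupOf Fc).card_mul_index
    rw [Nat.card_congr (Subgroup.subgroupOfEquivOfLe hZF).toEquiv, hZcard, hF8] at h2
    have h3 : Zc.relIndex Fc = (Zc.subgroupOf Fc).index := rfl
    rw [← hπ₂, ← hVb] at h1
    omega
  have hCV : Subgroup.centralizer (Vb : Set ((G ⧸ O) ⧸ Zc)) ≤ Vb := by
    set C := (Subgroup.centralizer (Vb : Set ((G ⧸ O) ⧸ Zc))).comap π₂ with hC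
    haveI : (Subgroup.centralizer (Vb : Set ((G ⧸ O) ⧸ Zc))).Normal := Subgroup.normal_centralizer
    haveI : C.Normal := inferInstanceAs (Subgroup.Normal (Subgroup.comap _ _))
    have hodd1 : ∀ g ∈ C, Odd (orderOf g) → g = 1 := by
      intro g hg hgo
      have hgF : g ∈ Fc := by
        refine hCF (Subgroup.mem_centralizer_iff.2 fun f hf => ?_)
        set c := g * f * g⁻¹ * f⁻¹ with hc
        have hcZ : c ∈ Zc := by
          refine (QuotientGroup.eq_one_iff _).1 ?_
          show π₂ c = 1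
          simp only [hc, map_mul, map_inv]
          rw [← Subgroup.mem_centralizer_iff.1 hg (π₂ f) ⟨f, hf, rfl⟩]
          group
        obtain ⟨i, hi⟩ := Subgroup.mem_zpowers_iff.1 hcZ
        have hcc : ∀ q, c * q = q * c := fun q => by
          rw [← hi]; exact ((show Commute z q from hzc q).zpow_left i).eq
        have hit : ∀ j : ℕ, g ^ j * f * (g ^ j)⁻¹ = c ^ j * f := by
          intro j
          induction j with
          | zero => simp
          | succ j ih =>
            calc g ^ (j + 1) * f * (g ^ (j + 1))⁻¹ = g * (g ^ j * f * (g ^ j)⁻¹) * g⁻¹ := by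
                  rw [pow_succ']; group
              _ = c ^ j * (g * f * g⁻¹) := by
                  rw [ih, ← mul_assoc g, ((show Commute c g from hcc g).pow_left j).symm.eq]; group
              _ = c ^ (j + 1) * f := by rw [pow_succ, hc]; group
        have h1 := hit (orderOf g)
        rw [pow_orderOf_eq_one, one_mul, inv_one, mul_one] at h1
        have h2 : orderOf c ∣ orderOf g := orderOf_dvd_of_pow_eq_one (mul_eq_right.1 h1.symm)
        have h3 : orderOf c ∣ 2 := orderOf_dvd_of_pow_eq_one (by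
          rw [← hi, ← zpow_natCast, ← zpow_mul, mul_comm, zpow_mul, zpow_natCast, hz2, one_zpow])
        have h4 := orderOf_eq_one_iff.1 (Nat.eq_one_of_dvd_coprimes (Nat.coprime_two_right.2 hgo) h2 h3)
        rw [hc, mul_inv_eq_one] at h4
        exact (mul_inv_eq_iff_eq_mul.1 h4).symm
      obtain ⟨j, hj⟩ := hFp ⟨g, hgF⟩
      exact orderOf_eq_one_iff.1 (Nat.eq_one_of_dvd_coprimes ((Nat.coprime_two_right.2 hgo).pow_right j)
        dvd_rfl (orderOf_dvd_of_pow_eq_one (congrArg Subtype.val hj)))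
    have hCp : IsPGroup 2 C := by
      refine IsPGroup.iff_card.2 ⟨_, Nat.eq_prime_pow_of_unique_prime_dvd Nat.card_pos.ne' fun {q} hq hqd => ?_⟩
      haveI := Fact.mk hq
      obtain ⟨g, hg⟩ := exists_prime_orderOf_dvd_card' q hqd
      by_contra hq2
      have := hodd1 g g.2 (by rw [Subgroup.orderOf_coe, hg]; exact hq.odd_of_ne_two hq2)
      rw [← Subgroup.orderOf_coe, this, orderOf_one] at hg
      exact hq.ne_one hg.symm
    intro q hq
    obtain ⟨g, rfl⟩ := QuotientGroup.mk'_surjective Zc q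
    exact ⟨g, Cores.le_pCore hCp hq, rfl⟩
  have hnp : ¬ IsPGroup 2 ((G ⧸ O) ⧸ Zc) := fun h => by
    obtain ⟨j, hj⟩ := IsPGroup.iff_card.1 h
    refine hK (IsPGroup.of_card (n := j + 1) ?_)
    rw [← Zc.card_mul_index, hZcard, show Zc.index = Nat.card ((G ⧸ O) ⧸ Zc) from rfl, hj, pow_succ']
  have hcase := klein_ext Vb hVcard hVsq hCV hnp
  let φ : G →* (G ⧸ O) ⧸ Zc := π₂.comp π
  have hφ : Function.Surjective φ := (QuotientGroup.mk'_surjective Zc).comp hπs
  refine ⟨φ.ker, inferInstance, zg_of_image hρ π hodd (C := Zc) inferInstance ?_, Or.inr ?_⟩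
  · rintro U hU - _ ⟨u, hu, rfl⟩
    exact (QuotientGroup.eq_one_iff _).1 (MonoidHom.mem_ker.1 (hU hu))
  rcases hcase with ⟨⟨e'⟩⟩ | ⟨⟨e'⟩⟩
  · exact Or.inl ⟨(QuotientGroup.quotientKerEquivOfSurjective φ hφ).trans e'⟩
  · exact Or.inr ⟨(QuotientGroup.quotientKerEquivOfSurjective φ hφ).trans e'⟩

end Cfsg.Agent.Lib.LAEven57.FrobQuot
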