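import Cfsg.Agent.Lib.SmallGroups.Sylow
import Mathlib.GroupTheory.SpecificGroups.KleinFour
import Mathlib.GroupTheory.SpecificGroups.Alternating

/-!
# Small groups occurring as quotients of Frobenius complements

* `ZG N` : all `p`-subgroups of `N` are cyclic.
* `Thick Y` : no nontrivial normal subgroup of `Y` is `ZG`.
* `perm_equiv`, `alt_equiv` : recognition from a faithful action.
-/

set_option autoImplicit false
set_option linter.style.haveILetI false

namespace Cfsg.Agent.Lib.LAEven57.FrobQuot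

/-- All `p`-subgroups of `N` are cyclic. -/
def ZG {G : Type*} [Group G] (N : Subgroup G) : Prop :=
  ∀ (p : ℕ) [Fact p.Prime] (P : Subgroup G), P ≤ N → IsPGroup p P → IsCyclic P

/-- No nontrivial normal subgroup is `ZG`. -/
def Thick (Y : Type*) [Group Y] : Prop :=
  ∀ N : Subgroup Y, N.Normal → ZG N → N = ⊥

theorem ZG.mono {G : Type*} [Group G] {N N' : Subgroup G} (h : ZG N) (hle : N' ≤ N) : ZG N' :=
  fun p _ P hP => h p P (hP.trans hle)

theorem zg_iff {G : Type*} [Group G] [Finite G] {N : Subgroup G} :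
    ZG N ↔ ∀ (p : ℕ) [Fact p.Prime] (P : Sylow p N), IsCyclic P := by
  refine ⟨fun h p _ P => ?_, fun h p _ P hP hPp => ?_⟩
  · have := h p ((P : Subgroup N).map N.subtype) (Subgroup.map_subtype_le _) (P.2.map _)
    exact ((P : Subgroup N).equivMapOfInjective N.subtype N.subtype_injective).isCyclic.2 this
  · obtain ⟨Q, hQ⟩ := (hPp.comap_subtype (K := N)).exists_le_sylow
    have := h p Q
    have : IsCyclic (P.subgroupOf N) := Subgroup.isCyclic_of_le hQ
    exact (Subgroup.subgroupOfEquivOfLe hP).isCyclic.1 this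

theorem ZG.map {G H : Type*} [Group G] [Finite G] [Group H] {N : Subgroup G} (h : ZG N)
    (f : G →* H) : ZG (N.map f) := by
  intro p _ P hP hPp
  have : Finite (N.map f) := Finite.of_surjective _ (f.subgroupMap_surjective N)
  obtain ⟨Q, hQ⟩ := (hPp.comap_subtype (K := N.map f)).exists_le_sylow
  let g := f.subgroupMap N
  have hg : Function.Surjective g := f.subgroupMap_surjective N
  let Q₀ : Sylow p N := default
  obtain ⟨c, hc⟩ := MulAction.exists_smul_eq (N.map f) (Q₀.mapSurjective hg) Q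
  have h1 : IsCyclic (Q₀ : Subgroup N) := (zg_iff.1 h) p Q₀
  have h2 : IsCyclic ((Q₀.mapSurjective hg : Sylow p (N.map f)) : Subgroup (N.map f)) := by
    show IsCyclic ((Q₀ : Subgroup N).map g)
    exact isCyclic_of_surjective _ (g.subgroupMap_surjective (Q₀ : Subgroup N))
  have h3 : IsCyclic (Q : Subgroup (N.map f)) := by
    rw [← hc]
    exact (Sylow.equiv _ _).isCyclic.1 h2
  have : IsCyclic (P.subgroupOf (N.map f)) := Subgroup.isCyclic_of_le hQ
  exact (Subgroup.subgroupOfEquivOfLe hP).isCyclic.1 this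

theorem thick_congr {Y Y' : Type*} [Group Y] [Finite Y] [Group Y'] (e : Y ≃* Y') (h : Thick Y') :
    Thick Y := fun N hN hz => (Subgroup.map_eq_bot_iff_of_injective N e.injective).1
      (h (N.map e.toMonoidHom) (hN.map _ e.surjective) (hz.map _))

/-- Two commuting involutions generate a non-cyclic group. -/
theorem not_zg_of_pair {G : Type*} [Group G] [Finite G] {N : Subgroup G} {a b : G} (ha : a ∈ N) (hb : b ∈ N)
    (ha2 : a * a = 1) (hb2 : b * b = 1) (hab : a * b = b * a) (ha1 : a ≠ 1) (hb1 : b ≠ 1) (hne : a ≠ b) :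
    ¬ ZG N := by
  intro h
  haveI := Fact.mk Nat.prime_two
  set P := Subgroup.closure ({a, b} : Set G) with hP
  have hc : ∀ x ∈ ({a, b} : Set G), ∀ y ∈ ({a, b} : Set G), x * y = y * x := by
    rintro x (rfl | rfl) y (rfl | rfl) <;> first | rfl | exact hab | exact hab.symm
  have hcomm : IsMulCommutative P := Subgroup.isMulCommutative_closure hc
  have hsq : ∀ x ∈ P, x * x = 1 := by
    intro x hx
    refine Subgroup.closure_induction (p := fun x _ => x * x = 1) ?_ (one_mul 1) ?_ ?_ hx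
    · rintro y (rfl | rfl) <;> assumption
    · intro u v hu hv h1 h2
      have huv : u * v = v * u := congrArg Subtype.val (hcomm.is_comm.comm (⟨u, hu⟩ : P) ⟨v, hv⟩)
      calc u * v * (u * v) = u * (v * u) * v := by group
        _ = u * u * (v * v) := by rw [← huv]; group
        _ = 1 := by rw [h1, h2, one_mul]
    · intro u _ h1
      rw [← mul_inv_rev, h1, inv_one]
  have hPp : IsPGroup 2 P := fun x => ⟨1, by
    ext
    rw [pow_one, sq]
    exact hsq x x.2⟩
  have hPN : P ≤ N := (Subgroup.closure_le _).2 (by rintro x (rfl | rfl) <;> assumption)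
  obtain ⟨g, hg⟩ := (h 2 P hPN hPp).exists_generator
  have hle : Nat.card P ≤ 2 := by
    rw [← orderOf_eq_card_of_forall_mem_zpowers hg]
    exact Nat.le_of_dvd two_pos (orderOf_dvd_of_pow_eq_one (Subtype.ext (by rw [sq]; exact hsq g g.2)))
  have h3 : ({1, a, b} : Set G) ⊆ P := by
    rintro x (rfl | rfl | rfl)
    · exact P.one_mem
    · exact Subgroup.subset_closure (Or.inl rfl)
    · exact Subgroup.subset_closure (Or.inr rfl)
  have := Set.ncard_le_ncard h3 (Set.toFinite _)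
  rw [Set.ncard_eq_three.2 ⟨1, a, b, ha1.symm, hb1.symm, hne, rfl⟩] at this
  have h4 : (P : Set G).ncard = Nat.card P := (Nat.card_coe_set_eq _).symm
  omega

/-- Recognition of the symmetric group from a faithful action. -/
theorem perm_equiv {X α : Type*} [Group X] [Finite α] (f : X →* Equiv.Perm α) (hf : Function.Injective f)
    {n : ℕ} (hn : Nat.card α = n) (hX : Nat.card X = n.factorial) :
    Nonempty (X ≃* Equiv.Perm (Fin n)) := by
  let e : Equiv.Perm α ≃* Equiv.Perm (Fin n) := (Finite.equivFinOfCardEq hn).permCongrHom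
  exact ⟨MulEquiv.ofBijective (e.toMonoidHom.comp f)
    ((Nat.bijective_iff_injective_and_card _).2 ⟨e.injective.comp hf, by
      rw [hX, Nat.card_perm, Nat.card_fin]⟩)⟩

/-- Recognition of the alternating group from a faithful action. -/
theorem alt_equiv {X α : Type*} [Group X] [Finite α] (f : X →* Equiv.Perm α) (hf : Function.Injective f)
    {n : ℕ} (hn : Nat.card α = n) (hX : 2 * Nat.card X = n.factorial) :
    Nonempty (X ≃* alternatingGroup (Fin n)) := by
  let e : Equiv.Perm α ≃* Equiv.Perm (Fin n) := (Finite.equivFinOfCardEq hn).permCongrHom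
  let g := e.toMonoidHom.comp f
  have hg : Function.Injective g := e.injective.comp hf
  have hidx : g.range.index = 2 := by
    have h1 := g.range.card_mul_index
    rw [Nat.card_congr (MonoidHom.ofInjective hg).symm.toEquiv, Nat.card_perm, Nat.card_fin, ← hX] at h1
    have hpos : 0 < Nat.card X := by
      rcases Nat.eq_zero_or_pos (Nat.card X) with h0 | h0
      · rw [h0, mul_zero] at hX; exact absurd hX.symm n.factorial_ne_zero
      · exact h0
    exact Nat.eq_of_mul_eq_mul_left hpos (h1.trans (mul_comm _ _))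
  exact ⟨(MonoidHom.ofInjective hg).trans
    (MulEquiv.subgroupCongr (Equiv.Perm.eq_alternatingGroup_of_index_eq_two hidx))⟩

/-! ### The five quotients -/

theorem key_alt_four : ∀ σ : alternatingGroup (Fin 4), σ ≠ 1 → ∀ d : alternatingGroup (Fin 4),
    d * d = 1 → ∃ τ υ : alternatingGroup (Fin 4),
      σ * τ * σ⁻¹ * τ⁻¹ * υ * (σ * τ * σ⁻¹ * τ⁻¹)⁻¹ * υ⁻¹ = d := by decide +kernel

theorem key_perm_four : ∀ σ : Equiv.Perm (Fin 4), σ ≠ 1 → ∀ d : Equiv.Perm (Fin 4),
    d * d = 1 → Equiv.Perm.sign d = 1 → ∃ τ υ : Equiv.Perm (Fin 4),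
      σ * τ * σ⁻¹ * τ⁻¹ * υ * (σ * τ * σ⁻¹ * τ⁻¹)⁻¹ * υ⁻¹ = d := by decide +kernel

theorem key_perm_five : ∀ σ : Equiv.Perm (Fin 5), σ ≠ 1 → ∃ i j : Fin 5,
    σ * Equiv.swap i j ≠ Equiv.swap i j * σ := by decide +kernel

theorem mem_of_commutators {Y : Type*} [Group Y] {N : Subgroup Y} [hN : N.Normal] {σ : Y} (hσ : σ ∈ N)
    (τ υ : Y) : σ * τ * σ⁻¹ * τ⁻¹ * υ * (σ * τ * σ⁻¹ * τ⁻¹)⁻¹ * υ⁻¹ ∈ N := by
  have h1 : σ * τ * σ⁻¹ * τ⁻¹ ∈ N := by
    rw [show σ * τ * σ⁻¹ * τ⁻¹ = σ * (τ * σ⁻¹ * τ⁻¹) by group]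
    exact N.mul_mem hσ (hN.conj_mem _ (N.inv_mem hσ) τ)
  generalize σ * τ * σ⁻¹ * τ⁻¹ = c at h1 ⊢
  rw [show c * υ * c⁻¹ * υ⁻¹ = c * (υ * c⁻¹ * υ⁻¹) by group]
  exact N.mul_mem h1 (hN.conj_mem _ (N.inv_mem h1) υ)

/-- `(0 1)(2 3)`. -/
abbrev dA : Equiv.Perm (Fin 4) := Equiv.swap 0 1 * Equiv.swap 2 3
/-- `(0 2)(1 3)`. -/
abbrev dB : Equiv.Perm (Fin 4) := Equiv.swap 0 2 * Equiv.swap 1 3

theorem thick_perm_four : Thick (Equiv.Perm (Fin 4)) := by
  intro N hN hz
  by_contra hne
  obtain ⟨σ, hσ, hσ1⟩ := SetLike.not_le_iff_exists.1 (show ¬ N ≤ ⊥ from fun h => hne (le_bot_iff.1 h))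
  have hσ1' : σ ≠ 1 := fun h => hσ1 (Subgroup.mem_bot.2 h)
  have hd : ∀ d : Equiv.Perm (Fin 4), d * d = 1 → Equiv.Perm.sign d = 1 → d ∈ N := fun d h1 h2 => by
    obtain ⟨τ, υ, he⟩ := key_perm_four σ hσ1' d h1 h2
    exact he ▸ mem_of_commutators hσ τ υ
  exact not_zg_of_pair (hd dA (by decide) (by decide)) (hd dB (by decide) (by decide))
    (by decide) (by decide) (by decide) (by decide) (by decide) (by decide) hz

theorem thick_alt_four : Thick (alternatingGroup (Fin 4)) := by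
  intro N hN hz
  by_contra hne
  obtain ⟨σ, hσ, hσ1⟩ := SetLike.not_le_iff_exists.1 (show ¬ N ≤ ⊥ from fun h => hne (le_bot_iff.1 h))
  have hσ1' : σ ≠ 1 := fun h => hσ1 (Subgroup.mem_bot.2 h)
  have hd : ∀ d : alternatingGroup (Fin 4), d * d = 1 → d ∈ N := fun d h1 => by
    obtain ⟨τ, υ, he⟩ := key_alt_four σ hσ1' d h1
    exact he ▸ mem_of_commutators hσ τ υ
  exact not_zg_of_pair (hd ⟨dA, Equiv.Perm.mem_alternatingGroup.2 (by decide)⟩ (by decide)) (hd ⟨dB, Equiv.Perm.mem_alternatingGroup.2 (by decide)⟩ (by decide))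
    (by decide) (by decide) (by decide) (by decide) (by decide) (by decide) hz

theorem not_zg_top_alt_five : ¬ ZG (⊤ : Subgroup (alternatingGroup (Fin 5))) :=
  not_zg_of_pair (a := ⟨Equiv.swap 0 1 * Equiv.swap 2 3, Equiv.Perm.mem_alternatingGroup.2 (by decide)⟩)
    (b := ⟨Equiv.swap 0 2 * Equiv.swap 1 3, Equiv.Perm.mem_alternatingGroup.2 (by decide)⟩) trivial trivial
    (by decide) (by decide) (by decide) (by decide) (by decide) (by decide)

theorem thick_alt_five : Thick (alternatingGroup (Fin 5)) := by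
  intro N hN hz
  have : IsSimpleGroup (alternatingGroup (Fin 5)) := alternatingGroup.isSimpleGroup (by simp)
  exact (IsSimpleGroup.eq_bot_or_eq_top_of_normal N hN).resolve_right
    fun h => not_zg_top_alt_five (h ▸ hz)

theorem thick_perm_five : Thick (Equiv.Perm (Fin 5)) := by
  intro N hN hz
  have hs : IsSimpleGroup (alternatingGroup (Fin 5)) := alternatingGroup.isSimpleGroup (by simp)
  rcases IsSimpleGroup.eq_bot_or_eq_top_of_normal (N.subgroupOf (alternatingGroup (Fin 5)))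
    (hN.subgroupOf _) with h | h
  · -- `N` has order at most two, so it is central
    by_contra hne
    obtain ⟨σ, hσ, hσ1⟩ := SetLike.not_le_iff_exists.1 (show ¬ N ≤ ⊥ from fun h => hne (le_bot_iff.1 h))
    obtain ⟨i, j, hij⟩ := key_perm_five σ (fun h => hσ1 (Subgroup.mem_bot.2 h))
    apply hij
    set τ := Equiv.swap i j
    have h1 : σ * τ * σ⁻¹ * τ⁻¹ ∈ N := by
      rw [show σ * τ * σ⁻¹ * τ⁻¹ = σ * (τ * σ⁻¹ * τ⁻¹) by group]
      exact N.mul_mem hσ (hN.conj_mem _ (N.inv_mem hσ) τ)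
    have h2 : σ * τ * σ⁻¹ * τ⁻¹ ∈ alternatingGroup (Fin 5) := by
      simp only [Equiv.Perm.mem_alternatingGroup, map_mul, map_inv]
      rcases Int.units_eq_one_or (Equiv.Perm.sign σ) with e | e <;>
        rcases Int.units_eq_one_or (Equiv.Perm.sign τ) with e' | e' <;> simp [e, e']
    have h3 : (⟨_, h2⟩ : alternatingGroup (Fin 5)) ∈ N.subgroupOf (alternatingGroup (Fin 5)) := h1
    rw [h, Subgroup.mem_bot] at h3
    have h4 := congrArg Subtype.val h3
    exact mul_inv_eq_iff_eq_mul.1 (mul_inv_eq_one.1 h4)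
  · exfalso
    have hle : alternatingGroup (Fin 5) ≤ N := Subgroup.subgroupOf_eq_top.1 h
    refine not_zg_of_pair (a := Equiv.swap 0 1 * Equiv.swap 2 3) (b := Equiv.swap 0 2 * Equiv.swap 1 3)
      (hle (Equiv.Perm.mem_alternatingGroup.2 (by decide))) (hle (Equiv.Perm.mem_alternatingGroup.2 (by decide))) (by decide) (by decide) (by decide) (by decide) (by decide)
      (by decide) hz

theorem thick_card {Y : Type*} [Group Y] [Finite Y]
    (h : Nonempty (Y ≃* alternatingGroup (Fin 4)) ∨ Nonempty (Y ≃* Equiv.Perm (Fin 4)) ∨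
      Nonempty (Y ≃* alternatingGroup (Fin 5)) ∨ Nonempty (Y ≃* Equiv.Perm (Fin 5))) :
    Thick Y ∧ 4 < Nat.card Y := by
  have h4 : Nat.card (alternatingGroup (Fin 4)) = 12 := by
    rw [Nat.card_eq_fintype_card]; rfl
  have h5 : Nat.card (alternatingGroup (Fin 5)) = 60 := by
    rw [Nat.card_eq_fintype_card]; rfl
  rcases h with ⟨⟨e⟩⟩ | ⟨⟨e⟩⟩ | ⟨⟨e⟩⟩ | ⟨⟨e⟩⟩
  · exact ⟨thick_congr e thick_alt_four, by rw [Nat.card_congr e.toEquiv, h4]; norm_num⟩
  · exact ⟨thick_congr e thick_perm_four, by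
      rw [Nat.card_congr e.toEquiv, Nat.card_perm, Nat.card_fin]; norm_num [Nat.factorial]⟩
  · exact ⟨thick_congr e thick_alt_five, by rw [Nat.card_congr e.toEquiv, h5]; norm_num⟩
  · exact ⟨thick_congr e thick_perm_five, by
      rw [Nat.card_congr e.toEquiv, Nat.card_perm, Nat.card_fin]; norm_num [Nat.factorial]⟩

end Cfsg.Agent.Lib.LAEven57.FrobQuot
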